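import Groth.Agent.S1700
import Groth.Agent.L18.KerReduced
import Groth.Agent.L22.LocalDim

/-!
The complement of a dense affine open as an effective Cartier divisor.
-/

set_option autoImplicit false
set_option linter.style.haveILetI false
universe u

open CategoryTheory AlgebraicGeometry TopologicalSpace Opposite

namespace Groth.L22.Div

variable {X : Scheme.{u}}

theorem maximal_of_assoc [IsReduced X] [IsLocallyNoetherian X] {x : X}
    (h : IsAssociatedPrime (IsLocalRing.maximalIdeal (X.presheaf.stalk x)) (X.presheaf.stalk x))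
    {y : X} (hy : y ⤳ x) : y = x := by
  obtain ⟨hm, w, hw⟩ := isAssociatedPrime_iff.mp h
  have key : ∀ c, c ∈ IsLocalRing.maximalIdeal (X.presheaf.stalk x) ↔ c * w = 0 := fun c => by
    rw [hw, Submodule.mem_colon_singleton, Submodule.mem_bot, smul_eq_mul]
  have hw0 : w ≠ 0 := fun h0 => hm.ne_top ((Ideal.eq_top_iff_one _).2 ((key 1).2 (by rw [h0, mul_zero])))
  have hwu : IsUnit w := by
    by_contra hu
    exact hw0 (_root_.IsReduced.eq_zero w ⟨2, (pow_two w).trans ((key w).1 hu)⟩)
  have hF : IsLocalRing.maximalIdeal (X.presheaf.stalk x) = ⊥ := by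
    refine le_antisymm (fun c hc => ?_) bot_le
    exact Ideal.mem_bot.2 ((IsUnit.mul_left_eq_zero hwu).1 ((key c).1 hc))
  have hfield : IsField (X.presheaf.stalk x) := IsLocalRing.isField_iff_maximalIdeal_eq.2 hF
  obtain ⟨q, hq⟩ : y ∈ Set.range (X.fromSpecStalk x) := by
    rw [Scheme.range_fromSpecStalk]; exact hy
  have hqc : q = IsLocalRing.closedPoint (X.presheaf.stalk x) := by
    letI := hfield.toField
    exact PrimeSpectrum.ext (((Ideal.eq_bot_or_top q.asIdeal).resolve_right q.2.ne_top).trans hF.symm)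
  rw [← hq, hqc, Scheme.fromSpecStalk_closedPoint]

theorem exists_effCartier_compl [IsNoetherian X] (U : X.Opens) [IsAffineHom U.ι] (hdense : Dense (U : Set X))
    (hufd : ∀ x : X, x ∉ U → IsDomain (X.presheaf.stalk x) ∧ UniqueFactorizationMonoid (X.presheaf.stalk x)) :
    ∃ 𝓘 : X.IdealSheafData, BlowUp.IsEffCartierIdeal 𝓘 ∧ (𝓘.support : Set X) = (U : Set X)ᶜ := by
  let Z : Closeds X := ⟨(U : Set X)ᶜ, U.2.isClosed_compl⟩
  let I := Scheme.IdealSheafData.vanishingIdeal Z
  haveI : IsReduced I.subscheme := Groth.L18.isReduced_vanishingIdeal_subscheme Z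
  haveI : IsLocallyNoetherian I.subscheme := LocallyOfFiniteType.isLocallyNoetherian I.subschemeι
  have hsupp : (I.support : Set X) = (U : Set X)ᶜ := Scheme.IdealSheafData.coe_support_vanishingIdeal Z
  refine ⟨I, Groth.Agent.S1700.result X I (fun z hz z' hz' => maximal_of_assoc hz hz') (fun z hz => ?_)
    (fun x hx => hufd x (hsupp.le hx)), hsupp⟩
  have hzU : I.subschemeι z ∉ U := hsupp.le (I.range_subschemeι.le ⟨z, rfl⟩)
  refine le_antisymm (LocalDim.dim_le_one_of_isAffineHom U hzU fun y hy hyz => ?_)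
    (LocalDim.one_le_dim_of_mem_closure hzU (hdense _))
  obtain ⟨y', rfl⟩ : y ∈ Set.range I.subschemeι := by rw [I.range_subschemeι, hsupp]; exact hy
  rw [hz y' (I.subschemeι.isEmbedding.isInducing.specializes_iff.1 hyz)]

theorem isAffineHom_ι_of_inf (hΔ : ∀ V W : X.Opens, IsAffineOpen V → IsAffineOpen W → IsAffineOpen (V ⊓ W))
    {U : X.Opens} (hU : IsAffineOpen U) : IsAffineHom U.ι := by
  refine isAffineHom_of_forall_exists_isAffineOpen _ fun y => ?_
  obtain ⟨_, ⟨W, hW, rfl⟩, hyW, -⟩ :=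
    X.isBasis_affineOpens.exists_subset_of_mem_open (Set.mem_univ y) isOpen_univ
  refine ⟨W, hyW, hW, ?_⟩
  rw [← Scheme.Hom.isAffineOpen_iff_of_isOpenImmersion U.ι, Scheme.Hom.image_preimage_eq_opensRange_inf,
    Scheme.Opens.opensRange_ι]
  exact hΔ U W hU hW

end Groth.L22.Div
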