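import Groth.Agent.L22.CartierDecomp
import Groth.Agent.L22.LocalDim
import Mathlib.RingTheory.Ideal.UFD
import Mathlib.RingTheory.Ideal.AssociatedPrime.Basic

/-!
Effective Cartier divisors via the stalks of the ideal.
-/

set_option autoImplicit false
set_option linter.style.haveILetI false
universe u

open CategoryTheory AlgebraicGeometry TopologicalSpace Opposite

namespace Groth.L22.Div

variable {X : Scheme.{u}}

/-- The ideal at a point, read on an affine neighbourhood. -/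
noncomputable def stalkIdeal (I : X.IdealSheafData) (U : X.affineOpens) (x : X) (hx : x ∈ U.1) :
    Ideal (X.presheaf.stalk x) :=
  (I.ideal U).map (X.presheaf.germ U.1 x hx).hom

theorem exists_principal_nhd [IsLocallyNoetherian X] (I : X.IdealSheafData) (U : X.affineOpens) (x : X)
    (hx : x ∈ U.1) (a : X.presheaf.stalk x) (hI : stalkIdeal I U x hx = Ideal.span {a})
    (ha : a ∈ nonZeroDivisors (X.presheaf.stalk x)) :
    ∃ V : X.affineOpens, x ∈ V.1 ∧
      ∃ f : Γ(X, V.1), f ∈ nonZeroDivisors Γ(X, V.1) ∧ I.ideal V = Ideal.span {f} := by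
  classical
  haveI : IsNoetherianRing Γ(X, U.1) := IsLocallyNoetherian.component_noetherian U
  letI : Algebra Γ(X, U.1) (X.presheaf.stalk x) := (X.presheaf.germ U.1 x hx).hom.toAlgebra
  haveI : IsLocalization.AtPrime (X.presheaf.stalk x) (U.2.primeIdealOf ⟨x, hx⟩).asIdeal :=
    U.2.isLocalization_stalk ⟨x, hx⟩
  set P := (U.2.primeIdealOf ⟨x, hx⟩).asIdeal
  obtain ⟨⟨r, t⟩, hrt⟩ := IsLocalization.surj P.primeCompl a
  have hu : IsUnit (algebraMap Γ(X, U.1) (X.presheaf.stalk x) t.1) := IsLocalization.map_units _ t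
  have hmap : (I.ideal U).map (algebraMap Γ(X, U.1) (X.presheaf.stalk x)) =
      (Ideal.span {r}).map (algebraMap Γ(X, U.1) (X.presheaf.stalk x)) := by
    rw [Ideal.map_span, Set.image_singleton, ← hrt, Ideal.span_singleton_mul_right_unit hu]
    exact hI
  obtain ⟨s, hs⟩ : ∃ s : P.primeCompl, (∀ y ∈ I.ideal U, s.1 * y ∈ Ideal.span {r}) ∧
      s.1 * r ∈ I.ideal U ∧ (∀ y, y * r = 0 → s.1 * y = 0) := by
    have h1 : ∀ y ∈ I.ideal U, ∃ s ∈ P.primeCompl, s * y ∈ Ideal.span {r} := fun y hy => by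
      have := hmap.le (Ideal.mem_map_of_mem _ hy)
      exact (IsLocalization.algebraMap_mem_map_algebraMap_iff P.primeCompl _ _ _).1 this
    obtain ⟨s₂, hs₂, hs₂r⟩ := (IsLocalization.algebraMap_mem_map_algebraMap_iff P.primeCompl _ _ _).1
      (hmap.ge (Ideal.mem_map_of_mem _ (Ideal.mem_span_singleton_self r)))
    let Ann : Ideal Γ(X, U.1) := LinearMap.ker (LinearMap.toSpanSingleton Γ(X, U.1) Γ(X, U.1) r)
    have h3 : ∀ y ∈ Ann, ∃ s ∈ P.primeCompl, s * y = 0 := fun y hy => by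
      have h : algebraMap Γ(X, U.1) (X.presheaf.stalk x) y * a = 0 := by
        refine (IsUnit.mul_left_eq_zero hu).1 ?_
        rw [mul_assoc, hrt, ← map_mul]
        rw [LinearMap.mem_ker, LinearMap.toSpanSingleton_apply, smul_eq_mul] at hy
        rw [hy, map_zero]
      have h0 : algebraMap Γ(X, U.1) (X.presheaf.stalk x) y = 0 :=
        (mem_nonZeroDivisors_iff.1 ha).2 _ h
      obtain ⟨s, hs⟩ := (IsLocalization.map_eq_zero_iff P.primeCompl _ _).1 h0
      exact ⟨s.1, s.2, hs⟩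
    obtain ⟨S₁, hS₁⟩ := IsNoetherian.noetherian (I.ideal U)
    obtain ⟨S₃, hS₃⟩ := IsNoetherian.noetherian Ann
    choose f₁ hf₁ hf₁' using fun y : S₁ => h1 y.1 (hS₁.le (Submodule.subset_span y.2))
    choose f₃ hf₃ hf₃' using fun y : S₃ => h3 y.1 (hS₃.le (Submodule.subset_span y.2))
    refine ⟨⟨(∏ y, f₁ y) * s₂ * ∏ y, f₃ y, mul_mem (mul_mem (prod_mem fun y _ => hf₁ y) hs₂)
      (prod_mem fun y _ => hf₃ y)⟩, fun y hy => ?_, ?_, fun y hy => ?_⟩
    · rw [← hS₁] at hy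
      show (∏ y, f₁ y) * s₂ * (∏ y, f₃ y) * y ∈ _
      induction hy using Submodule.span_induction with
      | mem w hw =>
        obtain ⟨c, hc⟩ := Finset.dvd_prod_of_mem f₁ (Finset.mem_univ (⟨w, hw⟩ : S₁))
        rw [hc, show f₁ ⟨w, hw⟩ * c * s₂ * (∏ y, f₃ y) * w =
          c * s₂ * (∏ y, f₃ y) * (f₁ ⟨w, hw⟩ * w) by ring]
        exact Ideal.mul_mem_left _ _ (hf₁' ⟨w, hw⟩)
      | zero => simp
      | add u v _ _ hu hv => rw [mul_add]; exact add_mem hu hv
      | smul c u _ hu => rw [smul_eq_mul, mul_left_comm]; exact Ideal.mul_mem_left _ _ hu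
    · show (∏ y, f₁ y) * s₂ * (∏ y, f₃ y) * r ∈ _
      rw [show (∏ y, f₁ y) * s₂ * (∏ y, f₃ y) * r = (∏ y, f₁ y) * (∏ y, f₃ y) * (s₂ * r) by ring]
      exact Ideal.mul_mem_left _ _ hs₂r
    · have hy' : y ∈ Ann := by
        rw [LinearMap.mem_ker, LinearMap.toSpanSingleton_apply, smul_eq_mul]; exact hy
      rw [← hS₃] at hy'
      show (∏ y, f₁ y) * s₂ * (∏ y, f₃ y) * y = 0
      clear hy
      induction hy' using Submodule.span_induction with
      | mem w hw =>
        obtain ⟨c, hc⟩ := Finset.dvd_prod_of_mem f₃ (Finset.mem_univ (⟨w, hw⟩ : S₃))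
        rw [hc, show (∏ y, f₁ y) * s₂ * (f₃ ⟨w, hw⟩ * c) * w =
          (∏ y, f₁ y) * s₂ * c * (f₃ ⟨w, hw⟩ * w) by ring, hf₃' ⟨w, hw⟩, mul_zero]
      | zero => simp
      | add u v _ _ hu hv => rw [mul_add, hu, hv, add_zero]
      | smul c u _ hu => rw [smul_eq_mul, mul_left_comm, hu, mul_zero]
  obtain ⟨hs1, hs2, hs3⟩ := hs
  set V := X.affineBasicOpen (U := U) s.1
  haveI := U.2.isLocalization_basicOpen s.1
  refine ⟨V, (LocalDim.mem_basicOpen_iff U.2 hx s.1).2 s.2, algebraMap Γ(X, U.1) Γ(X, X.basicOpen s.1) r,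
    ?_, ?_⟩
  · refine mem_nonZeroDivisors_iff_right.2 fun (y : Γ(X, X.basicOpen s.1)) hy => ?_
    change y * algebraMap Γ(X, U.1) Γ(X, X.basicOpen s.1) r = 0 at hy
    show y = 0
    obtain ⟨n, b, hb⟩ := IsLocalization.Away.surj s.1 y
    have h : algebraMap Γ(X, U.1) Γ(X, X.basicOpen s.1) (b * r) = 0 := by
      rw [map_mul, ← hb, mul_right_comm, hy, zero_mul]
    obtain ⟨⟨_, k, rfl⟩, hk⟩ := (IsLocalization.map_eq_zero_iff (Submonoid.powers s.1) _ _).1 h
    have h2 := hs3 (s.1 ^ k * b) (by rw [mul_assoc]; exact hk)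
    have h3 : algebraMap Γ(X, U.1) Γ(X, X.basicOpen s.1) b = 0 :=
      (IsLocalization.map_eq_zero_iff (Submonoid.powers s.1) _ _).2
        ⟨⟨s.1 ^ (k + 1), k + 1, rfl⟩, by show s.1 ^ (k + 1) * b = 0; rw [pow_succ', mul_assoc]; exact h2⟩
    rw [h3] at hb
    exact (IsUnit.mul_left_eq_zero ((IsLocalization.Away.algebraMap_isUnit s.1).pow n)).1 hb
  · rw [← I.map_ideal (U := V) (V := U) (X.basicOpen_le s.1)]
    show @Eq (Ideal Γ(X, X.basicOpen s.1)) ((I.ideal U).map (algebraMap Γ(X, U.1) Γ(X, X.basicOpen s.1)))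
      (Ideal.span {algebraMap Γ(X, U.1) Γ(X, X.basicOpen s.1) r})
    have hu' : IsUnit (algebraMap Γ(X, U.1) Γ(X, X.basicOpen s.1) s.1) := IsLocalization.Away.algebraMap_isUnit s.1
    refine le_antisymm (Ideal.map_le_iff_le_comap.2 fun y hy => ?_) ?_
    · rw [Ideal.mem_comap, ← Ideal.unit_mul_mem_iff_mem _ hu', ← map_mul]
      obtain ⟨c, hc⟩ := Ideal.mem_span_singleton'.1 (hs1 y hy)
      rw [← hc, map_mul]
      exact Ideal.mul_mem_left _ _ (Ideal.mem_span_singleton_self _)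
    · refine (Ideal.span_singleton_le_iff_mem _).2 ?_
      rw [← Ideal.unit_mul_mem_iff_mem _ hu', ← map_mul]
      exact Ideal.mem_map_of_mem _ hs2

theorem isEffCartier_of_stalks [IsLocallyNoetherian X] (I : X.IdealSheafData)
    (h : ∀ (x : X), x ∈ (I.support : Set X) → ∀ (U : X.affineOpens) (hx : x ∈ U.1),
      ∃ a, stalkIdeal I U x hx = Ideal.span {a} ∧ a ∈ nonZeroDivisors (X.presheaf.stalk x)) :
    BlowUp.IsEffCartierIdeal I := by
  intro x
  obtain ⟨_, ⟨W, hW, rfl⟩, hxW, -⟩ :=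
    X.isBasis_affineOpens.exists_subset_of_mem_open (Set.mem_univ x) isOpen_univ
  by_cases hx : x ∈ (I.support : Set X)
  · obtain ⟨a, ha, ha'⟩ := h x hx ⟨W, hW⟩ hxW
    exact exists_principal_nhd I ⟨W, hW⟩ x hxW a ha ha'
  · refine exists_principal_nhd I ⟨W, hW⟩ x hxW 1 ?_ (one_mem _)
    rw [Ideal.span_singleton_one]
    by_contra hne
    refine hx ((CartierDecomp.mem_support_iff (U := ⟨W, hW⟩) hxW).2 fun y hy => ?_)
    by_contra hy'
    refine hne (Ideal.eq_top_of_isUnit_mem _ (Ideal.mem_map_of_mem _ hy) ?_)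
    exact (X.mem_basicOpen y x hxW).1 ((LocalDim.mem_basicOpen_iff hW hxW y).2 hy')

/-- A non-zero ideal of a Noetherian factorial domain whose associated primes have height one is
principal. -/
theorem isPrincipal_of_height_one {R : Type u} [CommRing R] [IsDomain R] [IsNoetherianRing R]
    [UniqueFactorizationMonoid R] (J : Ideal R) (hJ : J ≠ ⊥)
    (h : ∀ (q : Ideal R) (y : R), q.IsPrime → (∀ c, c ∈ q ↔ c * y ∈ J) → q.height = 1) :
    ∃ a : R, a ≠ 0 ∧ J = Ideal.span {a} := by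
  obtain ⟨b, hbJ, hb0⟩ := Submodule.exists_mem_ne_zero_of_ne_bot hJ
  clear hJ
  revert J
  induction b using (wellFounded_dvdNotUnit (α := R)).induction with
  | _ b ih =>
    intro J h hbJ
    by_cases htop : J = ⊤
    · exact ⟨1, one_ne_zero, by rw [htop, Ideal.span_singleton_one]⟩
    obtain ⟨q, hq, hle⟩ := exists_le_isAssociatedPrime_of_isNoetherianRing R
      (Ideal.Quotient.mk J 1 : R ⧸ J) (by rwa [Ne, Ideal.Quotient.eq_zero_iff_mem, ← Ideal.eq_top_iff_one])
    obtain ⟨hqp, w, hw⟩ := isAssociatedPrime_iff.mp hq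
    obtain ⟨y, rfl⟩ := Ideal.Quotient.mk_surjective w
    have key : ∀ c, c ∈ q ↔ c * y ∈ J := fun c => by
      rw [hw, Submodule.mem_colon_singleton, Submodule.mem_bot, ← Ideal.Quotient.eq_zero_iff_mem]
      rfl
    have hJq : J ≤ q := fun c hc => (key c).2 (J.mul_mem_right y hc)
    haveI := hqp
    obtain ⟨π, hπ⟩ := UniqueFactorizationMonoid.isPrincipal_of_height_eq_one (h q y hqp key)
    have hπ' : ∀ c, c ∈ q ↔ π ∣ c := fun c => by
      rw [hπ]; exact Ideal.mem_span_singleton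
    obtain ⟨b', hb'⟩ := (hπ' b).1 (hJq hbJ)
    have hπ0 : π ≠ 0 := fun h0 => hb0 (by rw [hb', h0, zero_mul])
    have hb'0 : b' ≠ 0 := fun h0 => hb0 (by rw [hb', h0, mul_zero])
    let J' : Ideal R := Submodule.comap (LinearMap.toSpanSingleton R R π) J
    have hJ' : ∀ c, c ∈ J' ↔ c * π ∈ J := fun c => Iff.rfl
    obtain ⟨a, ha0, ha⟩ := ih b' ⟨hb'0, π, fun hu => hqp.ne_top (Ideal.eq_top_of_isUnit_mem _
        ((hπ' π).2 dvd_rfl) hu), by rw [hb', mul_comm]⟩ hb'0 J'
      (fun q' y' hq' hk => h q' (y' * π) hq' fun c => by rw [hk, hJ', mul_assoc])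
      ((hJ' b').2 (by rw [mul_comm, ← hb']; exact hbJ))
    refine ⟨π * a, mul_ne_zero hπ0 ha0, le_antisymm (fun c hc => ?_) ?_⟩
    · obtain ⟨c', rfl⟩ := (hπ' c).1 (hJq hc)
      have : c' ∈ J' := (hJ' c').2 (by rwa [mul_comm])
      rw [ha, Ideal.mem_span_singleton] at this
      exact Ideal.mem_span_singleton.2 (mul_dvd_mul_left π this)
    · rw [Ideal.span_le, Set.singleton_subset_iff, SetLike.mem_coe, mul_comm]
      exact (hJ' a).1 (ha ▸ Ideal.mem_span_singleton_self a)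

end Groth.L22.Div
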