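import Groth.Agent.L22.Cyc.Ord
import Mathlib.AlgebraicGeometry.OrderOfVanishing

/-!
Orders of vanishing of rational functions and restriction to open subschemes.
-/

set_option autoImplicit false
set_option backward.isDefEq.respectTransparency.types false

universe u

open CategoryTheory AlgebraicGeometry

namespace Groth.L22.Div.OrdRestrict

theorem ordFrac_ringEquiv {R S K L : Type u} [CommRing R] [IsDomain R] [IsNoetherianRing R] [Ring.KrullDimLE 1 R]
    [CommRing S] [IsDomain S] [IsNoetherianRing S] [Ring.KrullDimLE 1 S]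
    [Field K] [Algebra R K] [IsFractionRing R K] [Field L] [Algebra S L] [IsFractionRing S L]
    (e : R ≃+* S) (φ : K →+* L) (h : ∀ a, φ (algebraMap R K a) = algebraMap S L (e a)) (f : K) :
    Ring.ordFrac S (φ f) = Ring.ordFrac R f := by
  obtain ⟨a, b, hb, rfl⟩ := IsFractionRing.div_surjective (A := R) f
  have key : ∀ c : R, Ring.ordFrac S (φ (algebraMap R K c)) = Ring.ordFrac R (algebraMap R K c) := by
    intro c
    rcases eq_or_ne c 0 with rfl | hc
    · simp
    rw [h, Ring.ordFrac_eq_ord R hc, Ring.ordFrac_eq_ord S ((map_ne_zero_iff e e.injective).2 hc),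
      Ring.ordMonoidWithZeroHom_eq_ord (R := R) (mem_nonZeroDivisors_of_ne_zero hc),
      Ring.ordMonoidWithZeroHom_eq_ord (R := S) (mem_nonZeroDivisors_of_ne_zero ((map_ne_zero_iff e e.injective).2 hc)),
      Groth.L22.Cyc.ord_ringEquiv]
  rw [map_div₀, map_div₀, map_div₀, key, key]

variable {X U : Scheme.{u}} [IsIntegral X] [IsIntegral U] (i : U ⟶ X) [IsOpenImmersion i]

/-- The isomorphism of function fields of an integral scheme and a nonempty open subscheme. -/
noncomputable def ffMap : X.functionField ⟶ U.functionField :=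
  X.presheaf.stalkSpecializes (specializes_of_eq (genericPoint_eq_of_isOpenImmersion i)) ≫
    i.stalkMap (genericPoint U)

theorem ffMap_compat (u : U) :
    X.presheaf.stalkSpecializes ((genericPoint_spec X).specializes trivial : genericPoint X ⤳ i u) ≫ ffMap i =
      i.stalkMap u ≫ U.presheaf.stalkSpecializes ((genericPoint_spec U).specializes trivial) := by
  rw [ffMap, TopCat.Presheaf.stalkSpecializes_comp_assoc]
  exact Scheme.Hom.stalkSpecializes_stalkMap i (genericPoint U) u _

theorem ffMap_bijective : Function.Bijective (ffMap i).hom := by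
  haveI : IsIso (X.presheaf.stalkSpecializes (specializes_of_eq (genericPoint_eq_of_isOpenImmersion i))) :=
    ⟨X.presheaf.stalkSpecializes (specializes_of_eq (genericPoint_eq_of_isOpenImmersion i).symm),
      by rw [TopCat.Presheaf.stalkSpecializes_comp]; exact TopCat.Presheaf.stalkSpecializes_refl _ _,
      by rw [TopCat.Presheaf.stalkSpecializes_comp]; exact TopCat.Presheaf.stalkSpecializes_refl _ _⟩
  haveI : IsIso (ffMap i) := by unfold ffMap; infer_instance
  exact ConcreteCategory.bijective_of_isIso (ffMap i)

theorem coheight_eq (u : U) : Order.coheight (i u) = Order.coheight u := by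
  have h := ringKrullDim_eq_of_ringEquiv (asIso (i.stalkMap u)).commRingCatIsoToRingEquiv
  rw [ringKrullDim_stalk_eq_coheight, ringKrullDim_stalk_eq_coheight] at h
  exact_mod_cast h

theorem ord_ffMap [IsLocallyNoetherian X] [IsLocallyNoetherian U] (f : X.functionField) (hf : f ≠ 0)
    {u : U} (hu : Order.coheight u = 1) : Scheme.ord ((ffMap i).hom f) u = Scheme.ord f (i u) := by
  have hiu : Order.coheight (i u) = 1 := (coheight_eq i u).trans hu
  rw [Scheme.ord_eq_ordHom_of_coheight_eq_one hu, Scheme.ord_eq_ordHom_of_coheight_eq_one hiu]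
  haveI : Ring.KrullDimLE 1 (X.presheaf.stalk (i u)) := krullDimLE_of_coheight_le hiu.le
  haveI : Ring.KrullDimLE 1 (U.presheaf.stalk u) := krullDimLE_of_coheight_le hu.le
  congr 2
  exact ordFrac_ringEquiv (asIso (i.stalkMap u)).commRingCatIsoToRingEquiv (ffMap i).hom
    (fun a => DFunLike.congr_fun (CommRingCat.hom_ext_iff.mp (ffMap_compat i u)) a) f

end Groth.L22.Div.OrdRestrict
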