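import Groth.Agent.L22.Div.Stalk

/-!
Associated points of a closed subscheme from the stalks of its ideal.
-/

set_option autoImplicit false
set_option linter.style.haveILetI false
universe u

open CategoryTheory AlgebraicGeometry TopologicalSpace Opposite

namespace Groth.L22.Div

variable {X : Scheme.{u}}

theorem isAssociatedPrime_subscheme [IsLocallyNoetherian X] (I : X.IdealSheafData) (U : X.affineOpens) (z : I.subscheme)
    (hz : I.subschemeι z ∈ U.1) (y : Γ(X, U.1))
    (hy : ∀ c, c ∈ (U.2.primeIdealOf ⟨I.subschemeι z, hz⟩).asIdeal ↔ c * y ∈ I.ideal U) :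
    IsAssociatedPrime (IsLocalRing.maximalIdeal (I.subscheme.presheaf.stalk z))
      (I.subscheme.presheaf.stalk z) := by
  set P := (U.2.primeIdealOf ⟨I.subschemeι z, hz⟩).asIdeal
  have hA : IsAffineOpen (I.subschemeι ⁻¹ᵁ U.1) := U.2.preimage I.subschemeι
  let app := (I.subschemeι.app U.1).hom
  let g := (I.subscheme.presheaf.germ (I.subschemeι ⁻¹ᵁ U.1) z hz).hom
  have hker : RingHom.ker app = I.ideal U := I.ker_subschemeι_app U
  have hunit : ∀ c, IsUnit (g (app c)) ↔ c ∉ P := fun c => by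
    have h1 : IsUnit (g (app c)) ↔ z ∈ I.subscheme.basicOpen (app c) :=
      (I.subscheme.mem_basicOpen (app c) z hz).symm
    rw [h1, show I.subscheme.basicOpen (app c) = I.subschemeι ⁻¹ᵁ X.basicOpen c from
      (Scheme.preimage_basicOpen I.subschemeι c).symm]
    exact LocalDim.mem_basicOpen_iff U.2 hz c
  letI : Algebra Γ(I.subscheme, I.subschemeι ⁻¹ᵁ U.1) (I.subscheme.presheaf.stalk z) := g.toAlgebra
  haveI : IsLocalization.AtPrime (I.subscheme.presheaf.stalk z) (hA.primeIdealOf ⟨z, hz⟩).asIdeal :=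
    hA.isLocalization_stalk ⟨z, hz⟩
  haveI : IsLocallyNoetherian I.subscheme := LocallyOfFiniteType.isLocallyNoetherian I.subschemeι
  have hne : g (app y) ≠ 0 := fun h0 => by
    obtain ⟨s, hs⟩ := (IsLocalization.map_eq_zero_iff (hA.primeIdealOf ⟨z, hz⟩).asIdeal.primeCompl
      (I.subscheme.presheaf.stalk z) (app y)).1 h0
    obtain ⟨c, hc⟩ := I.subschemeι_app_surjective U s.1
    have hu : IsUnit (g (app c)) := by
      rw [show app c = s.1 from hc]
      exact IsLocalization.map_units (M := (hA.primeIdealOf ⟨z, hz⟩).asIdeal.primeCompl) _ s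
    have h1 : c * y ∈ I.ideal U := by
      rw [← hker, RingHom.mem_ker, map_mul]
      exact (congrArg (· * app y) (hc : app c = s.1)).trans hs
    exact (hunit c).1 hu ((hy c).2 h1)
  refine isAssociatedPrime_iff.2 ⟨inferInstance, g (app y), le_antisymm (fun m hm => ?_) fun m hm => ?_⟩
  · obtain ⟨⟨r, s⟩, hrs⟩ := IsLocalization.surj (hA.primeIdealOf ⟨z, hz⟩).asIdeal.primeCompl m
    obtain ⟨r', hr'⟩ := I.subschemeι_app_surjective U r
    have hs : IsUnit (g s.1) := IsLocalization.map_units (M := (hA.primeIdealOf ⟨z, hz⟩).asIdeal.primeCompl) _ s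
    have hnu : ¬ IsUnit (g (app r')) := by
      rw [show app r' = r from hr']
      rw [show g r = m * g s.1 from hrs.symm]
      intro hu
      exact hm (isUnit_of_mul_isUnit_left hu)
    have hmem : r' * y ∈ I.ideal U := (hy r').1 (not_not.1 fun h => hnu ((hunit r').2 h))
    have h0 : g (app r') * g (app y) = 0 := by
      rw [← map_mul, ← map_mul, show app (r' * y) = 0 from (RingHom.mem_ker).1 (hker.ge hmem), map_zero]
    rw [Submodule.mem_colon_singleton, Submodule.mem_bot, smul_eq_mul]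
    refine (IsUnit.mul_left_eq_zero hs).1 ?_
    rw [mul_right_comm]
    rw [show app r' = r from hr', show g r = m * g s.1 from hrs.symm] at h0
    exact h0
  · rw [Submodule.mem_colon_singleton, Submodule.mem_bot, smul_eq_mul] at hm
    intro hu
    exact hne ((IsUnit.mul_right_eq_zero hu).1 hm)

/-- An associated prime of the stalk ideal gives an associated point of the closed subscheme. -/
theorem exists_assoc_point [IsLocallyNoetherian X] (I : X.IdealSheafData) (U : X.affineOpens) (x : X)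
    (hx : x ∈ U.1) (q : Ideal (X.presheaf.stalk x)) (hq : q.IsPrime) (y : X.presheaf.stalk x)
    (h : ∀ c, c ∈ q ↔ c * y ∈ stalkIdeal I U x hx) :
    ∃ z : I.subscheme, I.subschemeι z ⤳ x ∧
      IsAssociatedPrime (IsLocalRing.maximalIdeal (I.subscheme.presheaf.stalk z))
        (I.subscheme.presheaf.stalk z) ∧
      ringKrullDim (X.presheaf.stalk (I.subschemeι z)) = q.height := by
  classical
  haveI : IsNoetherianRing Γ(X, U.1) := IsLocallyNoetherian.component_noetherian U
  letI : Algebra Γ(X, U.1) (X.presheaf.stalk x) := (X.presheaf.germ U.1 x hx).hom.toAlgebra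
  haveI : IsLocalization.AtPrime (X.presheaf.stalk x) (U.2.primeIdealOf ⟨x, hx⟩).asIdeal :=
    U.2.isLocalization_stalk ⟨x, hx⟩
  set Px := (U.2.primeIdealOf ⟨x, hx⟩).asIdeal
  let q₀ : Ideal Γ(X, U.1) := q.comap (algebraMap Γ(X, U.1) (X.presheaf.stalk x))
  haveI hq₀ : q₀.IsPrime := Ideal.comap_isPrime _ q
  have hqP : q₀ ≤ Px := fun c hc => by
    by_contra hn
    exact hq.ne_top (Ideal.eq_top_of_isUnit_mem _ hc (IsLocalization.map_units _ (⟨c, hn⟩ : Px.primeCompl)))
  obtain ⟨⟨r, t⟩, hrt⟩ := IsLocalization.surj Px.primeCompl y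
  have hu : IsUnit (algebraMap Γ(X, U.1) (X.presheaf.stalk x) t.1) := IsLocalization.map_units _ t
  have hq₀' : ∀ c, c ∈ q₀ ↔ ∃ s ∈ Px.primeCompl, s * (c * r) ∈ I.ideal U := fun c => by
    refine (h _).trans ?_
    have h1 : algebraMap Γ(X, U.1) (X.presheaf.stalk x) c * y ∈ stalkIdeal I U x hx ↔
        algebraMap Γ(X, U.1) (X.presheaf.stalk x) (c * r) ∈
          (I.ideal U).map (algebraMap Γ(X, U.1) (X.presheaf.stalk x)) := by
      rw [map_mul, ← hrt, ← mul_assoc]
      exact (Ideal.mul_unit_mem_iff_mem _ hu).symm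
    rw [h1]
    exact IsLocalization.algebraMap_mem_map_algebraMap_iff Px.primeCompl _ _ _
  obtain ⟨S, hS⟩ := IsNoetherian.noetherian q₀
  choose f hf hf' using fun c : S => (hq₀' c.1).1 (hS.le (Submodule.subset_span c.2))
  have hz : U.2.fromSpec ⟨q₀, hq₀⟩ ∈ U.1 := LocalDim.fromSpec_mem U.2 _
  have hkey : ∀ c, c ∈ q₀ ↔ c * ((∏ c, f c) * r) ∈ I.ideal U := fun c => by
    constructor
    · intro hc
      rw [← hS] at hc
      induction hc using Submodule.span_induction with
      | mem w hw =>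
        obtain ⟨d, hd⟩ := Finset.dvd_prod_of_mem f (Finset.mem_univ (⟨w, hw⟩ : S))
        rw [hd, show w * (f ⟨w, hw⟩ * d * r) = d * (f ⟨w, hw⟩ * (w * r)) by ring]
        exact Ideal.mul_mem_left _ _ (hf' ⟨w, hw⟩)
      | zero => simp
      | add u v _ _ hu hv => rw [add_mul]; exact add_mem hu hv
      | smul d u _ hu => rw [smul_eq_mul, mul_assoc]; exact Ideal.mul_mem_left _ _ hu
    · intro hc
      exact (hq₀' c).2 ⟨∏ c, f c, prod_mem fun c _ => hf c, by rwa [mul_left_comm]⟩
  have hzI : U.2.fromSpec ⟨q₀, hq₀⟩ ∈ (I.support : Set X) := by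
    refine (CartierDecomp.mem_support_iff hz).2 ?_
    rw [LocalDim.primeIdealOf_fromSpec]
    exact fun c hc => (hkey c).2 (Ideal.mul_mem_right _ _ hc)
  rw [← I.range_subschemeι] at hzI
  obtain ⟨z, hzz⟩ := hzI
  have hz' : I.subschemeι z ∈ U.1 := hzz ▸ hz
  have hPz : (U.2.primeIdealOf ⟨I.subschemeι z, hz'⟩).asIdeal = q₀ := by
    have : (⟨I.subschemeι z, hz'⟩ : U.1) = ⟨U.2.fromSpec ⟨q₀, hq₀⟩, hz⟩ := Subtype.ext hzz
    rw [this, LocalDim.primeIdealOf_fromSpec]
  refine ⟨z, ?_, isAssociatedPrime_subscheme I U z hz' ((∏ c, f c) * r) (fun c => by rw [hPz]; exact hkey c), ?_⟩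
  · rw [hzz]
    have := LocalDim.fromSpec_specializes U.2 (q := ⟨q₀, hq₀⟩) (q' := U.2.primeIdealOf ⟨x, hx⟩) hqP
    rwa [U.2.fromSpec_primeIdealOf] at this
  · rw [LocalDim.dim_stalk_eq_height U.2 hz', hPz]
    exact congrArg _ (IsLocalization.height_under Px.primeCompl q)

end Groth.L22.Div
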