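import Groth.Agent.L22.Div.Stalk
import Groth.Agent.L22.Ideal

/-!
Extending effective Cartier divisors from opens with factorial local rings outside.
-/

set_option autoImplicit false
set_option linter.style.haveILetI false
universe u

open CategoryTheory AlgebraicGeometry TopologicalSpace Opposite

namespace Groth.L22.Div

open Groth.L22.Ideals (comap_ideal)

theorem height_colon_principal {R : Type u} [CommRing R] [IsDomain R] [IsNoetherianRing R]
    [UniqueFactorizationMonoid R] {r y : R} (hr : r ≠ 0) (q : Ideal R) (hqp : q.IsPrime)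
    (hq : ∀ c, c ∈ q ↔ r ∣ c * y) : q.height = 1 := by
  obtain ⟨r', y', g, hrel, hr', hy'⟩ := UniqueFactorizationMonoid.exists_reduced_factors r hr y
  have hr0 : r' ≠ 0 := fun h0 => hr (by rw [← hr', h0, mul_zero])
  have hg : g ≠ 0 := fun h0 => hr (by rw [← hr', h0, zero_mul])
  have hspan : q = Ideal.span {r'} := by
    ext c
    rw [hq, Ideal.mem_span_singleton, ← hr', ← hy', mul_left_comm]
    rw [mul_dvd_mul_iff_left hg]
    exact ⟨fun h => hrel.dvd_of_dvd_mul_right h, fun h => h.mul_right _⟩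
  refine le_antisymm ?_ ?_
  · haveI : (Ideal.span {r'}).IsPrincipal := ⟨r', rfl⟩
    refine Ideal.height_le_one_of_isPrincipal_of_mem_minimalPrimes (Ideal.span {r'}) q ?_
    rw [← hspan, Ideal.minimalPrimes_eq_subsingleton_self]
    exact rfl
  · refine Order.one_le_iff_pos.2 (pos_iff_ne_zero.2 fun h0 => ?_)
    rw [Ideal.height_eq_zero_iff, IsDomain.minimalPrimes_eq_singleton_bot, Set.mem_singleton_iff] at h0
    rw [h0] at hspan
    exact hr0 (Ideal.span_singleton_eq_bot.1 hspan.symm)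

variable {X : Scheme.{u}}

theorem isEffCartier_of_isIso_le {U : X.Opens} {I : X.IdealSheafData} {D : (U : Scheme.{u}).IdealSheafData}
    (h : I.comap U.ι = D) (hD : BlowUp.IsEffCartierIdeal D) {x : X} (hx : x ∈ U) :
    ∃ V : X.affineOpens, x ∈ V.1 ∧ V.1 ≤ U ∧
      ∃ f : Γ(X, V.1), f ∈ nonZeroDivisors Γ(X, V.1) ∧ I.ideal V = Ideal.span {f} := by
  obtain ⟨W, hxW, f, hf, hW⟩ := hD ⟨x, hx⟩
  have hV : IsAffineOpen (U.ι ''ᵁ W.1) := W.2.image_of_isOpenImmersion U.ι
  have e : W.1 ≤ U.ι ⁻¹ᵁ (U.ι ''ᵁ W.1) := (U.ι.preimage_image_eq W.1).ge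
  subst h
  rw [comap_ideal U.ι I ⟨U.ι ''ᵁ W.1, hV⟩ W e] at hW
  haveI : IsIso (U.ι.appLE (U.ι ''ᵁ W.1) W.1 e) := by
    rw [Scheme.Hom.appLE]
    haveI : IsIso ((U : Scheme.{u}).presheaf.map (homOfLE e).op) := by
      have h1 : U.ι ⁻¹ᵁ (U.ι ''ᵁ W.1) = W.1 := U.ι.preimage_image_eq W.1
      rw [show homOfLE e = eqToHom h1.symm from rfl]
      infer_instance
    haveI : IsIso (U.ι.app (U.ι ''ᵁ W.1)) := U.ι.isIso_app _ (Scheme.Hom.image_le_opensRange _ _)
    infer_instance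
  let E := (asIso (U.ι.appLE (U.ι ''ᵁ W.1) W.1 e)).commRingCatIsoToRingEquiv
  refine ⟨⟨_, hV⟩, ⟨⟨x, hx⟩, hxW, rfl⟩, U.ι_image_le W.1, E.symm f, ?_, ?_⟩
  · refine mem_nonZeroDivisors_iff_right.2 fun y hy => ?_
    have h2 : E y * f = 0 := by
      rw [← E.apply_symm_apply f, ← map_mul]
      exact (congrArg E hy).trans (map_zero E)
    exact E.injective (((mem_nonZeroDivisors_iff_right.1 hf) _ h2).trans (map_zero E).symm)
  · have h3 := congrArg (Ideal.map E.symm.toRingHom) hW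
    rw [Ideal.map_span, Set.image_singleton, Ideal.map_map] at h3
    refine Eq.trans ?_ h3
    rw [show E.symm.toRingHom.comp (U.ι.appLE (U.ι ''ᵁ W.1) W.1 e).hom = RingHom.id _ from
      RingHom.ext fun a => E.symm_apply_apply a, Ideal.map_id]

theorem mem_ker_of_forall {Z : Scheme.{u}} (g : Z ⟶ X) (V : X.affineOpens) {z : X} (hz : z ∈ V.1)
    {U : X.Opens} (hgU : ∀ p, g p ∈ U) (hzU : z ∉ U) (y : Γ(X, V.1))
    (h : ∀ c ∈ (V.2.primeIdealOf ⟨z, hz⟩).asIdeal, g.app V.1 (c * y) = 0) : g.app V.1 y = 0 := by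
  refine TopCat.Presheaf.section_ext Z.sheaf _ _ _ fun p hp => ?_
  refine Eq.trans ?_ (map_zero (Z.presheaf.germ (g ⁻¹ᵁ V.1) p hp).hom).symm
  obtain ⟨c, hc, hpc⟩ : ∃ c ∈ (V.2.primeIdealOf ⟨z, hz⟩).asIdeal, g p ∈ X.basicOpen c := by
    by_contra hcon
    push Not at hcon
    have hle : (V.2.primeIdealOf ⟨z, hz⟩).asIdeal ≤ (V.2.primeIdealOf ⟨g p, hp⟩).asIdeal := fun c hc => by
      by_contra hn
      exact hcon c hc ((LocalDim.mem_basicOpen_iff V.2 hp c).2 hn)
    have hs := LocalDim.fromSpec_specializes V.2 hle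
    rw [V.2.fromSpec_primeIdealOf, V.2.fromSpec_primeIdealOf] at hs
    exact hzU (hs.mem_open U.2 (hgU p))
  have h1 : IsUnit (Z.presheaf.germ (g ⁻¹ᵁ V.1) p hp (g.app V.1 c)) := by
    refine (Z.mem_basicOpen _ p hp).1 ?_
    rw [← Scheme.preimage_basicOpen g c]
    exact hpc
  have h2 := congrArg (Z.presheaf.germ (g ⁻¹ᵁ V.1) p hp) (h c hc)
  rw [map_zero, map_mul, map_mul] at h2
  exact h1.mul_right_eq_zero.1 h2

theorem exists_effCartier_extend [IsLocallyNoetherian X] (U : X.Opens)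
    (D : (U : Scheme.{u}).IdealSheafData) (hD : BlowUp.IsEffCartierIdeal D)
    (hufd : ∀ x : X, x ∉ U → IsDomain (X.presheaf.stalk x) ∧ UniqueFactorizationMonoid (X.presheaf.stalk x)) :
    ∃ D' : X.IdealSheafData, BlowUp.IsEffCartierIdeal D' ∧ D'.comap U.ι = D := by
  classical
  let g := D.subschemeι ≫ U.ι
  have hgU : ∀ p, g p ∈ U := fun p => (D.subschemeι p).2
  have hcomap : g.ker.comap U.ι = D := by
    refine Scheme.IdealSheafData.ext (funext fun W => ?_)
    have hV : IsAffineOpen (U.ι ''ᵁ W.1) := W.2.image_of_isOpenImmersion U.ι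
    have e : W.1 ≤ U.ι ⁻¹ᵁ (U.ι ''ᵁ W.1) := (U.ι.preimage_image_eq W.1).ge
    rw [comap_ideal U.ι g.ker ⟨U.ι ''ᵁ W.1, hV⟩ W e, Scheme.Hom.ker_apply]
    haveI : IsIso (U.ι.app (U.ι ''ᵁ W.1)) := U.ι.isIso_app _ (Scheme.Hom.image_le_opensRange _ _)
    have hW2 : (U.ι ⁻¹ᵁ (U.ι ''ᵁ W.1)) = W.1 := U.ι.preimage_image_eq W.1
    let W' : (U : Scheme.{u}).affineOpens := ⟨U.ι ⁻¹ᵁ (U.ι ''ᵁ W.1), hW2.symm ▸ W.2⟩
    have hk : RingHom.ker (g.app (U.ι ''ᵁ W.1)).hom = (D.ideal W').comap (U.ι.app (U.ι ''ᵁ W.1)).hom := by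
      rw [show D.ideal W' = RingHom.ker (D.subschemeι.app W'.1).hom from (D.ker_subschemeι_app W').symm,
        RingHom.comap_ker]
      rfl
    have hm : ((U : Scheme.{u}).presheaf.map (homOfLE e).op).hom =
        ((U : Scheme.{u}).presheaf.map (homOfLE (show W.1 ≤ W'.1 from e)).op).hom := rfl
    rw [hk, Scheme.Hom.appLE, CommRingCat.hom_comp, ← Ideal.map_map,
      Ideal.map_comap_of_surjective _ (ConcreteCategory.bijective_of_isIso (U.ι.app _)).2, hm]
    exact D.map_ideal (U := W) (V := W') e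
  refine ⟨g.ker, fun x => ?_, hcomap⟩
  by_cases hxU : x ∈ U
  · obtain ⟨V, hxV, -, hf⟩ := isEffCartier_of_isIso_le hcomap hD hxU
    exact ⟨V, hxV, hf⟩
  obtain ⟨hdom, hu⟩ := hufd x hxU
  obtain ⟨_, ⟨V₀, hV₀, rfl⟩, hxV, -⟩ :=
    X.isBasis_affineOpens.exists_subset_of_mem_open (Set.mem_univ x) isOpen_univ
  let V : X.affineOpens := ⟨V₀, hV₀⟩
  haveI : IsNoetherianRing Γ(X, V.1) := IsLocallyNoetherian.component_noetherian V
  letI : Algebra Γ(X, V.1) (X.presheaf.stalk x) := (X.presheaf.germ V.1 x hxV).hom.toAlgebra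
  haveI : IsLocalization.AtPrime (X.presheaf.stalk x) (V.2.primeIdealOf ⟨x, hxV⟩).asIdeal :=
    V.2.isLocalization_stalk ⟨x, hxV⟩
  set P := (V.2.primeIdealOf ⟨x, hxV⟩).asIdeal
  set J := stalkIdeal g.ker V x hxV
  have hloc : ∀ r : Γ(X, V.1), algebraMap Γ(X, V.1) (X.presheaf.stalk x) r ∈ J ↔ ∃ s ∈ P.primeCompl, s * r ∈ g.ker.ideal V :=
    fun r => IsLocalization.algebraMap_mem_map_algebraMap_iff P.primeCompl _ _ _
  have key : ∀ (q : Ideal (X.presheaf.stalk x)) (y : X.presheaf.stalk x), q.IsPrime →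
      (∀ c, c ∈ q ↔ c * y ∈ J) → q.height = 1 ∧ J ≠ ⊥ := by
    intro q y hqp hq
    haveI := hqp
    let q₀ : Ideal Γ(X, V.1) := q.comap (algebraMap Γ(X, V.1) (X.presheaf.stalk x))
    have hqP : q₀ ≤ P := fun c hc => by
      by_contra hn
      exact hqp.ne_top (Ideal.eq_top_of_isUnit_mem _ hc (IsLocalization.map_units _ (⟨c, hn⟩ : P.primeCompl)))
    let z : X := V.2.fromSpec ⟨q₀, inferInstance⟩
    have hzV : z ∈ V.1 := LocalDim.fromSpec_mem V.2 _
    have hPz : (V.2.primeIdealOf ⟨z, hzV⟩).asIdeal = q₀ := by rw [LocalDim.primeIdealOf_fromSpec]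
    obtain ⟨⟨r, t⟩, hrt⟩ := IsLocalization.surj P.primeCompl y
    have hu : IsUnit (algebraMap Γ(X, V.1) (X.presheaf.stalk x) t.1) := IsLocalization.map_units _ t
    have hq' : ∀ c, c ∈ q₀ ↔ ∃ s ∈ P.primeCompl, s * (c * r) ∈ g.ker.ideal V := fun c => by
      rw [← hloc, map_mul, ← hrt, ← mul_assoc, Ideal.mul_unit_mem_iff_mem _ hu]
      exact hq _
    have hzU : z ∈ U := by
      by_contra hzU
      obtain ⟨S, hS⟩ := IsNoetherian.noetherian q₀
      choose f hf hf' using fun c : S => (hq' c.1).1 (hS.le (Submodule.subset_span c.2))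
      have hprod : ∀ c ∈ q₀, c * ((∏ c, f c) * r) ∈ g.ker.ideal V := fun c hc => by
        rw [← hS] at hc
        induction hc using Submodule.span_induction with
        | mem w hw =>
          obtain ⟨d, hd⟩ := Finset.dvd_prod_of_mem f (Finset.mem_univ (⟨w, hw⟩ : S))
          rw [hd, show w * (f ⟨w, hw⟩ * d * r) = d * (f ⟨w, hw⟩ * (w * r)) by ring]
          exact Ideal.mul_mem_left _ _ (hf' ⟨w, hw⟩)
        | zero => simp
        | add u v _ _ hu hv => rw [add_mul]; exact add_mem hu hv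
        | smul d u _ hu => rw [smul_eq_mul, mul_assoc]; exact Ideal.mul_mem_left _ _ hu
      have h0 : (∏ c, f c) * r ∈ g.ker.ideal V := by
        rw [Scheme.Hom.ker_apply, RingHom.mem_ker]
        refine mem_ker_of_forall g V hzV hgU hzU _ fun c hc => ?_
        exact RingHom.mem_ker.1 ((Scheme.Hom.ker_apply g V).le (hprod c (hPz ▸ hc)))
      have h1 : (1 : Γ(X, V.1)) ∈ q₀ :=
        (hq' 1).2 ⟨∏ c, f c, prod_mem fun c _ => hf c, by rwa [one_mul]⟩
      exact (inferInstance : q₀.IsPrime).ne_top ((Ideal.eq_top_iff_one _).2 h1)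
    -- near `z` the ideal is principal
    obtain ⟨W, hzW, -, φ, hφ, hW⟩ := isEffCartier_of_isIso_le hcomap hD hzU
    obtain ⟨c₀, hc₀W, hzc₀⟩ := V.2.exists_basicOpen_le (V := W.1) ⟨z, hzW⟩ hzV
    have hc₀q : c₀ ∉ q₀ := hPz ▸ (LocalDim.mem_basicOpen_iff V.2 hzV c₀).1 hzc₀
    have hc₀P : algebraMap Γ(X, V.1) (X.presheaf.stalk x) c₀ ∉ q := hc₀q
    haveI := V.2.isLocalization_basicOpen c₀
    let Vc : X.affineOpens := X.affineBasicOpen c₀
    let φ' : Γ(X, X.basicOpen c₀) := X.presheaf.map (homOfLE hc₀W).op φ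
    have hφ' : φ' ∈ nonZeroDivisors Γ(X, X.basicOpen c₀) := Groth.L22.Ideals.map_mem_nonZeroDivisors (U := W) (V := Vc) hc₀W hφ
    have hVc : (g.ker.ideal V).map (algebraMap Γ(X, V.1) Γ(X, X.basicOpen c₀)) = Ideal.span {φ'} := by
      refine (g.ker.map_ideal (U := Vc) (V := V) (X.basicOpen_le c₀)).trans ?_
      rw [← g.ker.map_ideal (U := Vc) (V := W) hc₀W, hW, Ideal.map_span, Set.image_singleton]
      rfl
    obtain ⟨⟨r₁, s₁⟩, hr₁⟩ := (IsLocalization.mem_map_algebraMap_iff (Submonoid.powers c₀) _).1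
      (hVc.ge (Ideal.mem_span_singleton_self φ'))
    have hs₁ : IsUnit (algebraMap Γ(X, V.1) Γ(X, X.basicOpen c₀) s₁.1) := IsLocalization.map_units _ s₁
    set R₁ := algebraMap Γ(X, V.1) (X.presheaf.stalk x) r₁.1
    have hR₁J : R₁ ∈ J := Ideal.mem_map_of_mem _ r₁.2
    have hR₁0 : R₁ ≠ 0 := fun h0 => by
      obtain ⟨t', ht'⟩ := (IsLocalization.map_eq_zero_iff P.primeCompl _ _).1 h0
      have h1 : algebraMap Γ(X, V.1) Γ(X, X.basicOpen c₀) t'.1 * φ' = 0 := by
        refine (IsUnit.mul_left_eq_zero hs₁).1 ?_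
        rw [mul_assoc, hr₁, ← map_mul, ht', map_zero]
      obtain ⟨⟨_, n, rfl⟩, hn⟩ := (IsLocalization.map_eq_zero_iff (Submonoid.powers c₀) _ _).1
        ((mem_nonZeroDivisors_iff_right.1 hφ') _ h1)
      have h2 : c₀ ^ n * t'.1 ∈ q₀ := by
        rw [show c₀ ^ n * t'.1 = 0 from hn]; exact zero_mem _
      rcases (inferInstance : q₀.IsPrime).mem_or_mem h2 with h3 | h3
      · exact hc₀q ((inferInstance : q₀.IsPrime).mem_of_pow_mem n h3)
      · exact t'.2 (hqP h3)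
    refine ⟨?_, fun h0 => hR₁0 (by rw [h0] at hR₁J; exact hR₁J)⟩
    -- the colon ideal of a principal ideal
    obtain ⟨S, hS⟩ := IsNoetherian.noetherian (g.ker.ideal V)
    have hgen : ∀ w : S, ∃ s ∉ q₀, r₁.1 ∣ s * w.1 := fun w => by
      have hw : algebraMap Γ(X, V.1) Γ(X, X.basicOpen c₀) w.1 ∈ Ideal.span {φ'} :=
        hVc.le (Ideal.mem_map_of_mem _ (hS.le (Submodule.subset_span w.2)))
      obtain ⟨a, ha⟩ := Ideal.mem_span_singleton'.1 hw
      obtain ⟨⟨b, u⟩, hb⟩ := IsLocalization.surj (Submonoid.powers c₀) a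
      have h1 : algebraMap Γ(X, V.1) Γ(X, X.basicOpen c₀) (w.1 * (u.1 * s₁.1)) =
          algebraMap Γ(X, V.1) Γ(X, X.basicOpen c₀) (b * r₁.1) := by
        rw [map_mul, map_mul, map_mul, ← ha, ← hb, ← hr₁]; ring
      obtain ⟨e, he⟩ := (IsLocalization.eq_iff_exists (Submonoid.powers c₀) _).1 h1
      have hnot : ∀ m : Submonoid.powers c₀, m.1 ∉ q₀ := by
        rintro ⟨_, n, rfl⟩ hn
        exact hc₀q ((inferInstance : q₀.IsPrime).mem_of_pow_mem n hn)
      refine ⟨e.1 * (u.1 * s₁.1), fun h => ?_, ⟨e.1 * b, ?_⟩⟩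
      · rcases (inferInstance : q₀.IsPrime).mem_or_mem h with h | h
        · exact hnot e h
        · rcases (inferInstance : q₀.IsPrime).mem_or_mem h with h | h
          · exact hnot u h
          · exact hnot s₁ h
      · linear_combination he
    choose s hs hs' using hgen
    have hsall : ∀ a ∈ g.ker.ideal V, r₁.1 ∣ (∏ w, s w) * a := fun a ha => by
      rw [← hS] at ha
      induction ha using Submodule.span_induction with
      | mem w hw =>
        obtain ⟨d, hd⟩ := Finset.dvd_prod_of_mem s (Finset.mem_univ (⟨w, hw⟩ : S))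
        rw [hd, mul_right_comm]
        exact (hs' ⟨w, hw⟩).mul_right d
      | zero => simp
      | add u v _ _ hu hv => rw [mul_add]; exact dvd_add hu hv
      | smul d u _ hu => rw [smul_eq_mul, mul_left_comm]; exact hu.mul_left d
    have hsq : algebraMap Γ(X, V.1) (X.presheaf.stalk x) (∏ w, s w) ∉ q := fun h => by
      obtain ⟨w, -, hw⟩ := (Ideal.IsPrime.prod_mem_iff (p := q₀)).1 (h : (∏ w, s w) ∈ q₀)
      exact hs w hw
    have hsJ : ∀ a ∈ J, R₁ ∣ algebraMap Γ(X, V.1) (X.presheaf.stalk x) (∏ w, s w) * a := fun a ha => by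
      induction ha using Submodule.span_induction with
      | mem a ha =>
        obtain ⟨a', ha', rfl⟩ := ha
        rw [← RingHom.algebraMap_toAlgebra (X.presheaf.germ V.1 x hxV).hom]
        rw [← map_mul]
        exact map_dvd _ (hsall a' ha')
      | zero => simp
      | add u v _ _ hu hv => rw [mul_add]; exact dvd_add hu hv
      | smul d u _ hu => rw [smul_eq_mul, mul_left_comm]; exact hu.mul_left d
    refine height_colon_principal (y := algebraMap Γ(X, V.1) (X.presheaf.stalk x) (∏ w, s w) * y) hR₁0 q hqp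
      fun c => ⟨fun hc => ?_, fun hc => ?_⟩
    · rw [mul_left_comm]
      exact hsJ _ ((hq c).1 hc)
    · have h1 : c * algebraMap Γ(X, V.1) (X.presheaf.stalk x) (∏ w, s w) ∈ q := by
        refine (hq _).2 ?_
        rw [mul_assoc]
        exact Ideal.mem_of_dvd J hc hR₁J
      exact (hqp.mem_or_mem h1).resolve_right hsq
  have hne : J ≠ ⊥ := fun h0 => (key ⊥ 1 Ideal.isPrime_bot fun c => by rw [h0, mul_one]).2 h0
  obtain ⟨a, ha0, ha⟩ := isPrincipal_of_height_one J hne fun q y hqp hq => (key q y hqp hq).1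
  exact exists_principal_nhd g.ker V x hxV a ha (mem_nonZeroDivisors_of_ne_zero ha0)

end Groth.L22.Div
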